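import Mathlib
import Groth.Prelude.Def_FlatMod2
import Groth.Prelude.Def_BlowUp2
import Groth.Agent.Lib.Helper5.Stalk.Pull
import Groth.Agent.Lib.Helper8.ExtScal
import Groth.Agent.Lib.Helper4.EffCartier
import Groth.Agent.Lib.Helper7.CohStalk.Finite
import Groth.Agent.Lib.Helper7.BlowSep.Pt

set_option linter.style.haveILetI false
set_option linter.unusedVariables false
set_option linter.unusedSectionVars false
set_option autoImplicit false
set_option backward.isDefEq.respectTransparency.types false
set_option synthInstance.maxHeartbeats 400000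
set_option maxHeartbeats 1600000
universe u

/-! helper7: pullback of a module flat along the centre is its own strict transform (S1696) -/
open CategoryTheory CategoryTheory.Limits AlgebraicGeometry TopologicalSpace Opposite TensorProduct

namespace Groth.Agent.Helper7.BlowStrict

open Scheme.IdealSheafData Groth.Agent.Helper4 Groth.Agent.Lib.Helper5.StalkAdj
open Groth.Agent.Helper7.BlowSep

/-- the stalk of a pullback module is flat where the original stalk is flat -/
theorem flat_stalk_pullback {X' X : Scheme.{u}} (g' : X' ⟶ X) (M : X.Modules) (x' : X')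
    (hfl : FlatMod.IsFlatAt M (g' x')) :
    FlatMod.IsFlatAt ((Scheme.Modules.pullback g').obj M) x' := by
  letI b3 : Algebra (X.presheaf.stalk (g' x')) (X'.presheaf.stalk x') :=
    (g'.stalkMap x').hom.toAlgebra
  let G := (Scheme.Modules.pullback g').obj M
  let e1 : (G.presheaf.stalk x') ≃ₗ[X'.presheaf.stalk x']
      ((ModuleCat.extendScalars.{u, u, u} (g'.stalkMap x').hom).obj
        ((stalkSh X (g' x')).obj M)) := ((stalkPullbackIso g' x').app M).toLinearEquiv
  let e2 : ((ModuleCat.extendScalars.{u, u, u} (g'.stalkMap x').hom).obj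
      ((stalkSh X (g' x')).obj M)) ≃ₗ[X'.presheaf.stalk x']
      ((X'.presheaf.stalk x') ⊗[X.presheaf.stalk (g' x')] (M.presheaf.stalk (g' x'))) :=
    Groth.Agent.Helper8.extScalEquiv (R := X.presheaf.stalk (g' x'))
      (S := X'.presheaf.stalk x') ((stalkSh X (g' x')).obj M)
  haveI : Module.Flat (X.presheaf.stalk (g' x')) (M.presheaf.stalk (g' x')) := hfl
  have key : Module.Flat (X'.presheaf.stalk x')
      ((X'.presheaf.stalk x') ⊗[X.presheaf.stalk (g' x')] (M.presheaf.stalk (g' x'))) :=
    inferInstance
  exact Module.Flat.of_linearEquiv (e1 ≪≫ₗ e2)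

/-- restriction of the ideal of an ideal sheaf between affine opens -/
theorem ideal_eq_map_res {X : Scheme.{u}} (I : X.IdealSheafData) (U V : X.affineOpens)
    (e : U.1 ≤ V.1) : I.ideal U = (I.ideal V).map (X.presheaf.map (homOfLE e).op).hom := by
  have h := IdealComap.ideal_comap_eq_map (𝟙 X) I U V e
  rw [comap_id] at h
  rw [h]
  congr 1

open Groth.Agent.Helper7.FinType in
/-- a section of a module killed by a power of an effective Cartier ideal vanishes at the points
where the module is flat or which are outside the support of the ideal -/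
theorem germ_eq_zero_of_killed {X : Scheme.{u}} (E : X.IdealSheafData)
    (hE : BlowUp.IsEffCartierIdeal E) (G : X.Modules) (V : X.affineOpens)
    (m : G.presheaf.obj (op V.1)) (hm : BlowUp.KilledByPowerNear E G V m) (x : X) (hx : x ∈ V.1)
    (hfl : x ∈ E.support → FlatMod.IsFlatAt G x) :
    G.presheaf.germ V.1 x hx m = 0 := by
  obtain ⟨n, hn⟩ := hm
  by_cases hxs : x ∈ E.support
  · -- flat case
    have hflat : Module.Flat (X.presheaf.stalk x) (G.presheaf.stalk x) := hfl hxs
    obtain ⟨U, hxU, hUV, t, ht, hEU⟩ := EffCartier.shrink hE x V.1 hx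
    have hpow : (E ^ n).ideal U = Ideal.span {t ^ n} := by
      rw [ideal_pow, Pi.pow_apply, hEU, Ideal.span_singleton_pow]
    have hres := ideal_eq_map_res (E ^ n) U V hUV
    set ρ : Γ(X, V.1) →+* Γ(X, U.1) := (X.presheaf.map (homOfLE hUV).op).hom with hρ
    -- the annihilating ideal of the germ
    let J : Ideal Γ(X, U.1) := Ideal.comap (X.presheaf.germ U.1 x hxU).hom
      (LinearMap.ker (LinearMap.toSpanSingleton (X.presheaf.stalk x) (G.presheaf.stalk x)
        (G.presheaf.germ V.1 x hx m)))
    have hJ : ∀ c : Γ(X, U.1), c ∈ J ↔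
        (X.presheaf.germ U.1 x hxU).hom c • G.presheaf.germ V.1 x hx m = 0 := by
      intro c
      simp only [J, Ideal.mem_comap, LinearMap.mem_ker, LinearMap.toSpanSingleton_apply]
    have hle : ((E ^ n).ideal V).map ρ ≤ J := by
      rw [Ideal.map_le_iff_le_comap]
      intro a ha
      rw [Ideal.mem_comap, hJ]
      have h1 : (X.presheaf.germ U.1 x hxU).hom (ρ a) = (X.presheaf.germ V.1 x hx).hom a :=
        TopCat.Presheaf.germ_res_apply X.presheaf (homOfLE hUV) x hxU a
      rw [h1]
      have h2 := germ_smul G x V.1 hx a m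
      rw [hn a ha, map_zero] at h2
      exact h2.symm
    have htn : t ^ n ∈ J := by
      apply hle
      rw [← hres, hpow]
      exact Ideal.mem_span_singleton_self _
    rw [hJ, map_pow] at htn
    have hnzd : (X.presheaf.germ U.1 x hxU).hom t ∈ nonZeroDivisors (X.presheaf.stalk x) :=
      EffCartier.germ_nzd U.1 U.2 t ht x hxU
    have hreg : IsSMulRegular (G.presheaf.stalk x) ((X.presheaf.germ U.1 x hxU).hom t) :=
      Module.Flat.isSMulRegular_of_nonZeroDivisors hnzd
    exact (hreg.pow n).right_eq_zero_of_smul htn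
  · -- outside the support
    have hxs' : x ∉ (E ^ n).support := by
      rcases Nat.eq_zero_or_pos n with h0 | hpos
      · subst h0
        rw [pow_zero]
        change x ∉ (⊤ : X.IdealSheafData).support
        rw [support_top]
        exact fun h => h
      · rw [support_pow E n hpos.ne']
        exact hxs
    obtain ⟨a, ha, han⟩ := exists_not_mem_ptIdeal (E ^ n) V x hx hxs'
    have hu : IsUnit ((X.presheaf.germ V.1 x hx).hom a) := by
      by_contra hnu
      apply han
      rw [mem_ptIdeal_iff, Scheme.mem_basicOpen _ _ _ hx]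
      exact hnu
    have h2 := germ_smul G x V.1 hx a m
    rw [hn a ha, map_zero] at h2
    exact (IsUnit.smul_eq_zero hu).mp h2.symm

theorem S1696_main {S S' : Scheme.{u}} (𝓘 : S.IdealSheafData) (b : S' ⟶ S)
    (hb : BlowUp.IsBlowUp b 𝓘)
    (F : S.Modules) (hflat : ∀ s : ↥S, s ∈ 𝓘.support → FlatMod.IsFlatAt F s) :
    BlowUp.IsStrictTransform b 𝓘 F ((Scheme.Modules.pullback b).obj F) (𝟙 _) := by
  refine ⟨inferInstance, fun V m => ⟨fun h => ?_, fun h => ?_⟩⟩
  · have hm : m = 0 := h
    refine ⟨0, fun a _ => ?_⟩
    rw [hm, smul_zero]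
  · change m = 0
    apply TopCat.Presheaf.section_ext ⟨((Scheme.Modules.pullback b).obj F).presheaf,
      ((Scheme.Modules.pullback b).obj F).isSheaf⟩ V.1 m 0
    intro x hx
    rw [map_zero]
    apply germ_eq_zero_of_killed (𝓘.comap b) hb.1 _ V m h x hx
    intro hxs
    apply flat_stalk_pullback
    apply hflat
    rw [support_comap] at hxs
    exact hxs

end Groth.Agent.Helper7.BlowStrict
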